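import Groth.Agent.HopfFF.Union
import Mathlib.RingTheory.HopfAlgebra.Basic

/-! # Hopf subalgebras in any universe (after NormalQuot.Sub) -/

set_option autoImplicit false
set_option linter.all false
universe u v

open TensorProduct WithConv

namespace Groth.Agent.HopfPoint.Univ

open Groth.Agent.HopfFF

variable {k : Type u} [Field k] {A : Type v} [CommRing A] [HopfAlgebra k A]

/-- `B` is stable under comultiplication and antipode (`SGA3.IsHopfSubalgebra`, in any universe). -/
def IsHopfSub (B : Subalgebra k A) : Prop :=
  (∀ b ∈ B, Coalgebra.comul (R := k) b ∈
      LinearMap.range (TensorProduct.map B.val.toLinearMap B.val.toLinearMap)) ∧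
    ∀ b ∈ B, HopfAlgebraStruct.antipode (R := k) b ∈ B

section Sub

variable (B : Subalgebra k A) (hB : IsHopfSub B)

omit [HopfAlgebra k A] in
theorem map_val_injective {A : Type v} [CommRing A] [Algebra k A] (B : Subalgebra k A) :
    Function.Injective (TensorProduct.map B.val.toLinearMap B.val.toLinearMap) := by
  rw [← LinearMap.lTensor_comp_rTensor]
  exact (Module.Flat.lTensor_preserves_injective_linearMap _ Subtype.val_injective).comp
    (Module.Flat.rTensor_preserves_injective_linearMap _ Subtype.val_injective)

/-- the comultiplication of a Hopf subalgebra -/
noncomputable def comulSub : B →ₐ[k] B ⊗[k] B :=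
  (AlgEquiv.ofInjective (Algebra.TensorProduct.map B.val B.val) (map_val_injective B)).symm.toAlgHom.comp
    (((Bialgebra.comulAlgHom k A).comp B.val).codRestrict (Algebra.TensorProduct.map B.val B.val).range
      fun b => by
        obtain ⟨y, hy⟩ := hB.1 b b.2
        exact ⟨y, hy⟩)

theorem map_comulSub (b : B) :
    TensorProduct.map B.val.toLinearMap B.val.toLinearMap (comulSub B hB b) = Coalgebra.comul (R := k) (b : A) :=
  congrArg Subtype.val
    ((AlgEquiv.ofInjective (Algebra.TensorProduct.map B.val B.val) (map_val_injective B)).apply_symm_apply _)

/-- the bialgebra structure of a Hopf subalgebra -/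
@[implicit_reducible] noncomputable def bialgebraSub : Bialgebra k B := by
  refine Bialgebra.ofAlgHom (comulSub B hB) ((Bialgebra.counitAlgHom k A).comp B.val) ?_ ?_ ?_
  · refine AlgHom.ext fun b => ?_
    let v : B →ₗ[k] A := B.val.toLinearMap
    have hinj : Function.Injective (TensorProduct.map v (TensorProduct.map v v)) := by
      rw [← LinearMap.lTensor_comp_rTensor]
      exact (Module.Flat.lTensor_preserves_injective_linearMap _ (map_val_injective B)).comp
        (Module.Flat.rTensor_preserves_injective_linearMap _ Subtype.val_injective)
    apply hinj
    have e1 : ∀ z : B ⊗[k] B, TensorProduct.map v (TensorProduct.map v v)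
        ((Algebra.TensorProduct.assoc k k k B B B) (Algebra.TensorProduct.map (comulSub B hB) (AlgHom.id k B) z)) =
        TensorProduct.assoc k A A A ((Coalgebra.comul (R := k)).rTensor A (TensorProduct.map v v z)) := by
      intro z
      induction z with
      | zero => simp
      | add y z hy hz => simp only [map_add, hy, hz]
      | tmul p q =>
        rw [TensorProduct.map_tmul, LinearMap.rTensor_tmul, show v p = (p : A) from rfl, ← map_comulSub B hB p,
          Algebra.TensorProduct.map_tmul]
        generalize comulSub B hB p = y
        induction y with
        | zero => simp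
        | tmul r s => simp [v]
        | add y z hy hz => simp only [add_tmul, map_add, hy, hz]
    have e2 : ∀ z : B ⊗[k] B, TensorProduct.map v (TensorProduct.map v v)
        (Algebra.TensorProduct.map (AlgHom.id k B) (comulSub B hB) z) =
        (Coalgebra.comul (R := k)).lTensor A (TensorProduct.map v v z) := by
      intro z
      induction z with
      | zero => simp
      | add y z hy hz => simp only [map_add, hy, hz]
      | tmul p q =>
        rw [TensorProduct.map_tmul, LinearMap.lTensor_tmul, show v q = (q : A) from rfl, ← map_comulSub B hB q,
          Algebra.TensorProduct.map_tmul, TensorProduct.map_tmul]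
        rfl
    have h3 : TensorProduct.map v v (comulSub B hB b) = Coalgebra.comul (R := k) (b : A) := map_comulSub B hB b
    refine (e1 _).trans (Eq.trans ?_ (e2 _).symm)
    exact (congrArg (fun w => TensorProduct.assoc k A A A ((Coalgebra.comul (R := k)).rTensor A w)) h3).trans
      ((Coalgebra.coassoc_apply (b : A)).trans
        (congrArg (fun w => (Coalgebra.comul (R := k)).lTensor A w) h3).symm)
  · refine AlgHom.ext fun b => ?_
    have hinj : Function.Injective (B.val.toLinearMap.lTensor k) :=
      Module.Flat.lTensor_preserves_injective_linearMap _ Subtype.val_injective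
    apply hinj
    have e : ∀ z : B ⊗[k] B, B.val.toLinearMap.lTensor k
        (Algebra.TensorProduct.map ((Bialgebra.counitAlgHom k A).comp B.val) (AlgHom.id k B) z) =
        (Coalgebra.counit (R := k) (A := A)).rTensor A (TensorProduct.map B.val.toLinearMap B.val.toLinearMap z) := by
      intro z
      induction z with
      | zero => simp
      | tmul p q => simp
      | add y z hy hz => simp only [map_add, hy, hz]
    refine (e _).trans ((congrArg _ (map_comulSub B hB b)).trans ?_)
    rw [Coalgebra.rTensor_counit_comul]
    simp
  · refine AlgHom.ext fun b => ?_
    have hinj : Function.Injective (B.val.toLinearMap.rTensor k) :=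
      Module.Flat.rTensor_preserves_injective_linearMap _ Subtype.val_injective
    apply hinj
    have e : ∀ z : B ⊗[k] B, B.val.toLinearMap.rTensor k
        (Algebra.TensorProduct.map (AlgHom.id k B) ((Bialgebra.counitAlgHom k A).comp B.val) z) =
        (Coalgebra.counit (R := k) (A := A)).lTensor A (TensorProduct.map B.val.toLinearMap B.val.toLinearMap z) := by
      intro z
      induction z with
      | zero => simp
      | tmul p q => simp
      | add y z hy hz => simp only [map_add, hy, hz]
    refine (e _).trans ((congrArg _ (map_comulSub B hB b)).trans ?_)
    rw [Coalgebra.lTensor_counit_comul]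
    simp

/-- the Hopf algebra structure of a Hopf subalgebra -/
@[implicit_reducible] noncomputable def hopfSub : HopfAlgebra k B :=
  letI := bialgebraSub B hB
  HopfAlgebra.ofAlgHom
    (((HopfAlgebra.antipodeAlgHom k A).comp B.val).codRestrict B fun b => hB.2 b b.2)
    (AlgHom.ext fun b => Subtype.val_injective (by
      have h := HopfAlgebra.mul_antipode_rTensor_comul_apply (R := k) (b : A)
      refine Eq.trans ?_ h
      show (Algebra.TensorProduct.lift _ _ (fun _ _ => Commute.all _ _) (comulSub B hB b) : B).1 = _
      rw [← map_comulSub B hB b]
      generalize comulSub B hB b = z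
      induction z with
      | zero => simp
      | tmul p q => simp
      | add y z hy hz => simp only [map_add, Subalgebra.coe_add, hy, hz]))
    (AlgHom.ext fun b => Subtype.val_injective (by
      have h := HopfAlgebra.mul_antipode_lTensor_comul_apply (R := k) (b : A)
      refine Eq.trans ?_ h
      show (Algebra.TensorProduct.lift _ _ (fun _ _ => Commute.all _ _) (comulSub B hB b) : B).1 = _
      rw [← map_comulSub B hB b]
      generalize comulSub B hB b = z
      induction z with
      | zero => simp
      | tmul p q => simp
      | add y z hy hz => simp only [map_add, Subalgebra.coe_add, hy, hz]))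

/-- the inclusion of a Hopf subalgebra -/
noncomputable def valHom : letI := hopfSub B hB; B →ₐc[k] A :=
  letI := hopfSub B hB
  BialgHom.ofAlgHom B.val rfl (AlgHom.ext fun b => map_comulSub B hB b)

theorem valHom_injective : letI := hopfSub B hB; Function.Injective (valHom B hB) :=
  fun _ _ h => Subtype.val_injective h


end Sub

end Groth.Agent.HopfPoint.Univ
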