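import Groth.Agent.HopfFF.Union
import Groth.Agent.HopfPoint.SubAny
import Mathlib.RingTheory.Jacobson.Ring
import Mathlib.FieldTheory.IsAlgClosed.Basic
import Mathlib.Order.Zorn
import Groth.Agent.LinRed.HopfReduced

/-! # Points of affine group schemes lift along surjective homomorphisms (no finiteness) -/

set_option autoImplicit false
set_option linter.all false
universe u v w

open TensorProduct

namespace Groth.Agent.HopfPoint.Univ

open Groth.Agent.HopfFF

variable {k : Type u} [Field k] {A : Type v} [CommRing A] [HopfAlgebra k A]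

theorem exists_point_quotient [IsAlgClosed k] {C : Type v} [CommRing C] [Algebra k C] (M : Ideal C) [M.IsMaximal]
    {D : Type w} [CommRing D] [Algebra k D] [Algebra.FiniteType k D] (j : D →ₐ[k] C ⧸ M)
    (hj : Function.Surjective j) : Function.Bijective (algebraMap k (C ⧸ M)) := by
  letI := Ideal.Quotient.field M
  haveI : Algebra.FiniteType k (C ⧸ M) := Algebra.FiniteType.of_surjective j hj
  haveI : Module.Finite k (C ⧸ M) := finite_of_finite_type_of_isJacobsonRing k _
  exact IsAlgClosed.algebraMap_bijective_of_isIntegral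

theorem isHopfSubalgebra_sup {B B' : Subalgebra k A} (hB : IsHopfSub (k := k) (A := A) B) (hB' : IsHopfSub (k := k) (A := A) B') :
    IsHopfSub (k := k) (A := A) (B ⊔ B') := by
  let C := B ⊔ B'
  have key : ∀ (E : Subalgebra k A), IsHopfSub (k := k) (A := A) E → E ≤ C →
      E ≤ (Algebra.TensorProduct.map C.val C.val).range.comap (Bialgebra.comulAlgHom k A) := by
    intro E hE hle e he
    obtain ⟨z, hz⟩ := hE.1 e he
    refine ⟨Algebra.TensorProduct.map (Subalgebra.inclusion hle) (Subalgebra.inclusion hle) z, Eq.trans ?_ hz⟩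
    clear hz
    induction z with
    | zero => simp
    | tmul p q => simp
    | add y z hy hz => simp only [AlgHom.toRingHom_eq_coe, RingHom.coe_coe, map_add] at hy hz ⊢; rw [hy, hz]
  refine ⟨fun c hc => ?_, fun c hc => ?_⟩
  · obtain ⟨z, hz⟩ := (sup_le (key B hB le_sup_left) (key B' hB' le_sup_right)) hc
    exact ⟨z, hz⟩
  · have hle : B ⊔ B' ≤ (B ⊔ B').comap (HopfAlgebra.antipodeAlgHom k A) :=
      sup_le (fun b hb => (le_sup_left : B ≤ B ⊔ B') (hB.2 b hb)) (fun b hb => (le_sup_right : B' ≤ B ⊔ B') (hB'.2 b hb))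
    exact hle hc

theorem isHopfSubalgebra_range {D : Type w} [CommRing D] [HopfAlgebra k D] (f : D →ₐc[k] A) :
    IsHopfSub (k := k) (A := A) (f : D →ₐ[k] A).range := by
  refine ⟨?_, ?_⟩
  · rintro _ ⟨d, rfl⟩
    refine ⟨TensorProduct.map (f : D →ₐ[k] A).rangeRestrict.toLinearMap (f : D →ₐ[k] A).rangeRestrict.toLinearMap
      (Coalgebra.comul (R := k) d), ?_⟩
    show _ = Coalgebra.comul (R := k) (f d)
    rw [← CoalgHomClass.map_comp_comul_apply f d, ← LinearMap.comp_apply, ← TensorProduct.map_comp]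
    rfl
  · rintro _ ⟨d, rfl⟩
    exact ⟨HopfAlgebraStruct.antipode (R := k) d, map_antipode f d⟩

theorem exists_extend [IsAlgClosed k] (B : Subalgebra k A) (hB : IsHopfSub (k := k) (A := A) B) (y : B →ₐ[k] k) (a : A) :
    ∃ (C : Subalgebra k A) (hle : B ≤ C) (_ : IsHopfSub (k := k) (A := A) C) (z : C →ₐ[k] k),
      a ∈ C ∧ z.comp (Subalgebra.inclusion hle) = y := by
  obtain ⟨n, π, hπ⟩ := exists_glHom_range k A {a}
  haveI := finiteType_GLn (k := k) n
  let D : Subalgebra k A := (π : CoordGrp.GLn n k →ₐ[k] A).range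
  have hD : IsHopfSub (k := k) (A := A) D := isHopfSubalgebra_range π
  let C := B ⊔ D
  have hC : IsHopfSub (k := k) (A := A) C := isHopfSubalgebra_sup hB hD
  letI := hopfSub B hB
  letI := hopfSub C hC
  obtain ⟨ι, hι⟩ := exists_factor (valHom C hC) (valHom_injective C hC) (valHom B hB)
    (fun b => ⟨⟨b, (le_sup_left : B ≤ C) b.2⟩, rfl⟩)
  have hιeq : ∀ b : B, (ι b : C) = Subalgebra.inclusion (le_sup_left : B ≤ C) b := fun b => Subtype.ext (hι b)
  have hinj : Function.Injective ι := fun p q h => Subtype.ext ((hι p).symm.trans ((congrArg (valHom C hC) h).trans (hι q)))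
  have hff := faithfullyFlat_of_injective' ι hinj
  algebraize [(ι : B →+* C)]
  haveI : Module.FaithfullyFlat B C := hff
  let m : Ideal B := RingHom.ker y
  have hm : m ≠ ⊤ := RingHom.ker_ne_top _
  have hmC : m.map (algebraMap B C) ≠ ⊤ := fun h => hm (by
    rw [← Ideal.comap_map_eq_self_of_faithfullyFlat (B := C) m, h, Ideal.comap_top])
  obtain ⟨M, hM, hmM⟩ := Ideal.exists_le_maximal _ hmC
  let q : C →ₐ[k] C ⧸ M := Ideal.Quotient.mkₐ k M
  have hscal : ∀ b : B, q (ι b) = algebraMap k (C ⧸ M) (y b) := by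
    intro b
    rw [← AlgHom.commutes q]
    refine Ideal.Quotient.eq.2 (hmM ?_)
    have : b - algebraMap k B (y b) ∈ m := by simp [m, RingHom.mem_ker]
    have h2 := Ideal.mem_map_of_mem (algebraMap B C) this
    rw [map_sub] at h2
    exact (AlgHomClass.commutes ι (y b)) ▸ h2
  let jD : CoordGrp.GLn n k →ₐ[k] C ⧸ M :=
    q.comp ((π : CoordGrp.GLn n k →ₐ[k] A).codRestrict C fun d => (le_sup_right : D ≤ C) ⟨d, rfl⟩)
  have hsurj : Function.Surjective jD := by
    intro c
    obtain ⟨⟨c, hc⟩, rfl⟩ := Ideal.Quotient.mk_surjective c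
    have hle : C ≤ ((jD.range).comap q).map C.val := by
      refine sup_le (fun b hb => ?_) (fun d hd => ?_)
      · refine ⟨⟨b, (le_sup_left : B ≤ C) hb⟩, ?_, rfl⟩
        exact ⟨algebraMap k _ (y ⟨b, hb⟩), by
          show jD (algebraMap k _ (y ⟨b, hb⟩)) = _
          rw [AlgHom.commutes]
          exact (hscal ⟨b, hb⟩).symm.trans (congrArg q (hιeq ⟨b, hb⟩))⟩
      · obtain ⟨x, rfl⟩ := hd
        exact ⟨⟨π x, (le_sup_right : D ≤ C) ⟨x, rfl⟩⟩, ⟨x, rfl⟩, rfl⟩
    obtain ⟨c', hc', e⟩ := hle hc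
    obtain rfl : c' = ⟨c, hc⟩ := Subtype.ext e
    exact hc'
  have hb := exists_point_quotient M jD hsurj
  let e : k ≃ₐ[k] C ⧸ M := AlgEquiv.ofBijective (Algebra.ofId k _) hb
  refine ⟨C, le_sup_left, hC, e.symm.toAlgHom.comp q, ?_, ?_⟩
  · obtain ⟨d, hd⟩ := hπ a (Finset.mem_singleton_self a)
    exact (le_sup_right : D ≤ C) ⟨d, hd⟩
  · refine AlgHom.ext fun b => e.injective ?_
    show e (e.symm (q (Subalgebra.inclusion (le_sup_left : B ≤ C) b))) = e (y b)
    rw [e.apply_symm_apply, ← hιeq, hscal]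
    rfl

/-- A partial point. -/
structure Part (k : Type u) [Field k] (A : Type v) [CommRing A] [HopfAlgebra k A] where
  sub : Subalgebra k A
  hopf : IsHopfSub (k := k) (A := A) sub
  pt : sub →ₐ[k] k

instance : Preorder (Part k A) where
  le p q := ∃ h : p.sub ≤ q.sub, q.pt.comp (Subalgebra.inclusion h) = p.pt
  le_refl p := ⟨le_rfl, AlgHom.ext fun x => rfl⟩
  le_trans p q r := by
    rintro ⟨h, e⟩ ⟨h', e'⟩
    exact ⟨h.trans h', by rw [← e, ← e']; rfl⟩

theorem exists_point [IsAlgClosed k] {A' : Type w} [CommRing A'] [HopfAlgebra k A'] (f : A' →ₐc[k] A)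
    (x : A' →ₐ[k] k) (hx : ∀ a, f a = 0 → x a = 0) : ∃ y : A →ₐ[k] k, y.comp (f : A' →ₐ[k] A) = x := by
  let fr := (f : A' →ₐ[k] A).rangeRestrict
  have hfr : Function.Surjective fr := (f : A' →ₐ[k] A).rangeRestrict_surjective
  have hker : RingHom.ker fr ≤ RingHom.ker x := fun a ha => hx a (congrArg Subtype.val ha)
  let y₀ : (f : A' →ₐ[k] A).range →ₐ[k] k := AlgHom.liftOfSurjective fr hfr x hker
  let p₀ : Part k A := ⟨_, isHopfSubalgebra_range f, y₀⟩
  have hzorn : ∃ m, p₀ ≤ m ∧ IsMax m := by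
    refine zorn_le_nonempty_Ici₀ _ (fun c hc hchain p hp => ?_) p₀ le_rfl
    haveI : Nonempty c := ⟨⟨p, hp⟩⟩
    have hdir : Directed (· ≤ ·) (fun q : c => q.1.sub) := fun q r => by
      rcases hchain.total q.2 r.2 with h | h
      · exact ⟨r, h.1, le_rfl⟩
      · exact ⟨q, le_rfl, h.1⟩
    have hcompat : ∀ (q r : c) (h : q.1.sub ≤ r.1.sub), q.1.pt = r.1.pt.comp (Subalgebra.inclusion h) := by
      intro q r h
      rcases hchain.total q.2 r.2 with ⟨h', e⟩ | ⟨h', e⟩
      · exact e.symm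
      · refine AlgHom.ext fun z => ?_
        show _ = r.1.pt (Subalgebra.inclusion h z)
        rw [← e]
        rfl
    let S : Subalgebra k A := ⨆ q : c, q.1.sub
    have hS : IsHopfSub (k := k) (A := A) S := by
      refine ⟨fun s hs => ?_, fun s hs => ?_⟩
      · obtain ⟨q, hq⟩ := Set.mem_iUnion.1 ((Subalgebra.coe_iSup_of_directed hdir).le hs)
        obtain ⟨z, hz⟩ := q.1.hopf.1 s hq
        let ι := Subalgebra.inclusion (le_iSup (fun q : c => q.1.sub) q)
        refine ⟨Algebra.TensorProduct.map ι ι z, Eq.trans ?_ hz⟩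
        clear hz
        induction z with
        | zero => simp
        | tmul p q => simp [ι]
        | add y z hy hz => simp only [map_add, hy, hz]
      · obtain ⟨q, hq⟩ := Set.mem_iUnion.1 ((Subalgebra.coe_iSup_of_directed hdir).le hs)
        exact le_iSup (fun q : c => q.1.sub) q (q.1.hopf.2 s hq)
    refine ⟨⟨S, hS, Subalgebra.iSupLift (fun q : c => q.1.sub) hdir (fun q => q.1.pt) hcompat S le_rfl⟩,
      fun q hq => ⟨le_iSup (fun q : c => q.1.sub) ⟨q, hq⟩, ?_⟩⟩
    exact Subalgebra.iSupLift_comp_inclusion (fun i : c => i.1.sub) (dir := hdir) (T := S) (hT := le_rfl) (hf := hcompat) (i := (⟨q, hq⟩ : c)) (le_iSup (fun q : c => q.1.sub) ⟨q, hq⟩)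
  obtain ⟨m, hm, hmax⟩ := hzorn
  have htop : ∀ a, a ∈ m.sub := fun a => by
    obtain ⟨C, hle, hC, z, haC, hz⟩ := exists_extend m.sub m.hopf m.pt a
    exact (hmax (show m ≤ ⟨C, hC, z⟩ from ⟨hle, hz⟩)).1 haC
  refine ⟨m.pt.comp ((AlgHom.id k A).codRestrict m.sub htop), AlgHom.ext fun a => ?_⟩
  obtain ⟨h0, e0⟩ := hm
  have h1 : m.pt (Subalgebra.inclusion h0 (fr a)) = y₀ (fr a) := DFunLike.congr_fun e0 (fr a)
  have h2 : y₀ (fr a) = x a := AlgHom.liftOfSurjective_apply _ _ _ _ a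
  exact h1.trans h2

theorem exists_point_ne_zero (a : A) (ha : a ≠ 0) [CharZero k] [IsAlgClosed k] : ∃ y : A →ₐ[k] k, y a ≠ 0 := by
  obtain ⟨n, π, hπ⟩ := exists_glHom_range k A {a}
  haveI := finiteType_GLn (k := k) n
  obtain ⟨d, hd⟩ := hπ a (Finset.mem_singleton_self a)
  let I := RingHom.ker (π : CoordGrp.GLn n k →ₐ[k] A)
  haveI := isHopfIdeal_ker π
  let j := kerLift π
  haveI : Algebra.FiniteType k (CoordGrp.GLn n k ⧸ I) :=
    Algebra.FiniteType.of_surjective (Ideal.Quotient.mkₐ k _) (Ideal.Quotient.mkₐ_surjective k _)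
  let d' : CoordGrp.GLn n k ⧸ I := Ideal.Quotient.mk I d
  haveI : IsReduced (CoordGrp.GLn n k ⧸ I) := Groth.Agent.LinRed.isReduced_of_hopfAlgebra_charZero k _
  have hd' : ¬ IsNilpotent d' := fun h => ha (by
    have e : j d' = a := (kerLift_mk π d).trans hd
    rw [← e, h.eq_zero, map_zero])
  obtain ⟨M, hM, hdM⟩ : ∃ M : Ideal (CoordGrp.GLn n k ⧸ I), M.IsMaximal ∧ d' ∉ M := by
    by_contra hcon
    push Not at hcon
    apply hd'
    rw [← mem_nilradical, nilradical_eq_sInf, Submodule.mem_sInf]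
    intro (P : Ideal (CoordGrp.GLn n k ⧸ I)) hP
    haveI : P.IsPrime := hP
    haveI : IsJacobsonRing (CoordGrp.GLn n k ⧸ I) := isJacobsonRing_of_finiteType (A := k)
    have : P.jacobson = P := IsJacobsonRing.out' P (Ideal.IsPrime.isRadical ‹_›)
    rw [← this]
    exact Submodule.mem_sInf.2 fun M hM => hcon M hM.2
  have hb := exists_point_quotient M (Ideal.Quotient.mkₐ k M) (Ideal.Quotient.mkₐ_surjective k M)
  let e : k ≃ₐ[k] _ := AlgEquiv.ofBijective (Algebra.ofId k _) hb
  let x : (CoordGrp.GLn n k ⧸ I) →ₐ[k] k := e.symm.toAlgHom.comp (Ideal.Quotient.mkₐ k M)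
  obtain ⟨y, hy⟩ := exists_point j x (fun z hz => by rw [kerLift_injective π (hz.trans (map_zero j).symm), map_zero])
  refine ⟨y, fun hya => hdM ?_⟩
  have h1 : x d' = 0 := by
    rw [← hy]
    show y (j d') = 0
    rw [show j d' = a from (kerLift_mk π d).trans hd, hya]
  have h2 : e.symm (Ideal.Quotient.mk M d') = 0 := h1
  rw [← e.symm.map_zero] at h2
  exact Ideal.Quotient.eq_zero_iff_mem.1 (e.symm.injective h2)

end Groth.Agent.HopfPoint.Univ
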