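import Groth.Agent.HopfPoint.Main
import Groth.Agent.HopfFF.SubHopf

/-! # Rational points of affine group schemes are dense -/

set_option linter.all false
universe u

namespace Groth.Agent.HopfPoint

open Groth.Agent.HopfFF Groth.Agent.NormalQuot

variable {k : Type u} [Field k] [IsAlgClosed k] {A : Type u} [CommRing A] [HopfAlgebra k A]

theorem exists_point_ne_zero (a : A) (ha : ¬ IsNilpotent a) : ∃ y : A →ₐ[k] k, y a ≠ 0 := by
  obtain ⟨n, π, hπ⟩ := exists_glHom_range k A {a}
  haveI := finiteType_GLn (k := k) n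
  obtain ⟨d, hd⟩ := hπ a (Finset.mem_singleton_self a)
  let I := RingHom.ker (π : CoordGrp.GLn n k →ₐ[k] A)
  haveI := isHopfIdeal_ker π
  let j := kerLift π
  haveI : Algebra.FiniteType k (CoordGrp.GLn n k ⧸ I) :=
    Algebra.FiniteType.of_surjective (Ideal.Quotient.mkₐ k _) (Ideal.Quotient.mkₐ_surjective k _)
  let d' : CoordGrp.GLn n k ⧸ I := Ideal.Quotient.mk I d
  have hd' : ¬ IsNilpotent d' := fun h => ha (by
    have := h.map (j : CoordGrp.GLn n k ⧸ I →ₐ[k] A).toRingHom
    rwa [show (j : CoordGrp.GLn n k ⧸ I →ₐ[k] A).toRingHom d' = a from (kerLift_mk π d).trans hd] at this)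
  obtain ⟨M, hM, hdM⟩ : ∃ M : Ideal (CoordGrp.GLn n k ⧸ I), M.IsMaximal ∧ d' ∉ M := by
    by_contra hcon
    push Not at hcon
    apply hd'
    rw [← mem_nilradical, nilradical_eq_sInf, Submodule.mem_sInf]
    intro (P : Ideal (CoordGrp.GLn n k ⧸ I)) hP
    haveI : P.IsPrime := hP
    haveI : IsJacobsonRing (CoordGrp.GLn n k ⧸ I) := isJacobsonRing_of_finiteType (A := k)
    have : P.jacobson = P := IsJacobsonRing.out' P (Ideal.IsPrime.isRadical ‹_›)
    rw [← this]
    exact Submodule.mem_sInf.2 fun M hM => hcon M hM.2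
  have hb := exists_point_quotient M (Ideal.Quotient.mkₐ k M) (Ideal.Quotient.mkₐ_surjective k M)
  let e : k ≃ₐ[k] _ := AlgEquiv.ofBijective (Algebra.ofId k _) hb
  let x : (CoordGrp.GLn n k ⧸ I) →ₐ[k] k := e.symm.toAlgHom.comp (Ideal.Quotient.mkₐ k M)
  obtain ⟨y, hy⟩ := exists_point j x (fun z hz => by rw [kerLift_injective π (hz.trans (map_zero j).symm), map_zero])
  refine ⟨y, fun hya => hdM ?_⟩
  have h1 : x d' = 0 := by
    rw [← hy]
    show y (j d') = 0
    rw [show j d' = a from (kerLift_mk π d).trans hd, hya]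
  have h2 : e.symm (Ideal.Quotient.mk M d') = 0 := h1
  rw [← e.symm.map_zero] at h2
  exact Ideal.Quotient.eq_zero_iff_mem.1 (e.symm.injective h2)

end Groth.Agent.HopfPoint
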